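import Groth.Agent.CycLib.Supp
import Groth.Agent.CycLib.Push
import Groth.Agent.CycLib.StalkSES
import Groth.Agent.CycLib.Finite
import Groth.Agent.H23.FiniteFibreSum

/-!
The stalk of a push-forward at a point over which the support of the module consists of finitely many
generic points of the support, and its length.
-/

set_option autoImplicit false
set_option linter.style.haveILetI false
set_option backward.isDefEq.respectTransparency false
set_option backward.isDefEq.respectTransparency.types false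

universe u

open AlgebraicGeometry CategoryTheory TopologicalSpace Opposite

namespace Groth.Agent.H9CycPush

/-- Length after restriction of scalars along a map of rings to a local ring. -/
theorem length_restrict {R A : Type u} [CommRing R] [CommRing A] [IsLocalRing A] [Algebra R A]
    {M : Type u} [AddCommGroup M] [Module A M] (hM : IsFiniteLength A M) [Module R M] [IsScalarTower R A M] :
    Module.length R M = Module.length A M * Module.length R (IsLocalRing.ResidueField A) := by
  revert ‹Module R M›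
  induction hM with
  | of_subsingleton => intros; simp [Module.length_eq_zero]
  | @of_simple_quotient M _ _ N hs _ ih =>
    intros
    have e1 : Module.length R M = Module.length R N + Module.length R (M ⧸ N) :=
      Module.length_eq_add_of_exact (N.subtype.restrictScalars R) (N.mkQ.restrictScalars R)
        Subtype.val_injective N.mkQ_surjective (LinearMap.exact_subtype_mkQ N)
    have e2 : Module.length A M = Module.length A N + Module.length A (M ⧸ N) :=
      Module.length_eq_add_of_exact N.subtype N.mkQ Subtype.val_injective N.mkQ_surjective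
        (LinearMap.exact_subtype_mkQ N)
    obtain ⟨I, hI, ⟨e⟩⟩ := isSimpleModule_iff_quot_maximal.1 hs
    obtain rfl := IsLocalRing.eq_maximalIdeal hI
    rw [e1, e2, ih, add_mul, (e.restrictScalars R).length_eq, Module.length_eq_one (R := A) (M := M ⧸ N), one_mul]
    rfl

variable {X Y : Scheme.{u}} (f : X ⟶ Y)

/-- The map from the local ring of `Y` at `y` to that of `X` at a point over a generalization of `y`. -/
noncomputable def ringMap {x : X} {y : Y} (h : f x ⤳ y) : Y.presheaf.stalk y →+* X.presheaf.stalk x :=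
  (Y.presheaf.stalkSpecializes h ≫ f.stalkMap x).hom

theorem ringMap_germ {x : X} {y : Y} (h : f x ⤳ y) (U : Y.Opens) (hU : y ∈ U) (b : Γ(Y, U)) :
    ringMap f h (Y.presheaf.germ U y hU b) =
      X.presheaf.germ (f ⁻¹ᵁ U) x (h.mem_open U.isOpen hU) (f.app U b) := by
  show (f.stalkMap x) (Y.presheaf.stalkSpecializes h (Y.presheaf.germ U y hU b)) = _
  erw [TopCat.Presheaf.germ_stalkSpecializes_apply]
  exact Scheme.Hom.germ_stalkMap_apply f U x _ b

variable (F : X.Modules)

/-- From the stalk of the push-forward to a stalk over it. -/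
noncomputable def toStalkAdd {x : X} {y : Y} (h : f x ⤳ y) :
    ((Coh.push f).obj F).presheaf.stalk y →+ F.presheaf.stalk x :=
  (((Coh.push f).obj F).presheaf.stalkSpecializes h ≫
    TopCat.Presheaf.stalkPushforward Ab.{u} f.base F.presheaf x).hom

theorem toStalkAdd_germ {x : X} {y : Y} (h : f x ⤳ y) (U : Y.Opens) (hU : y ∈ U) (v : Γ(F, f ⁻¹ᵁ U)) :
    toStalkAdd f F h (((Coh.push f).obj F).presheaf.germ U y hU v) =
      F.presheaf.germ (f ⁻¹ᵁ U) x (h.mem_open U.isOpen hU) v := by
  show (TopCat.Presheaf.stalkPushforward Ab.{u} f.base F.presheaf x)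
    (((Coh.push f).obj F).presheaf.stalkSpecializes h (((Coh.push f).obj F).presheaf.germ U y hU v)) = _
  erw [TopCat.Presheaf.germ_stalkSpecializes_apply]
  exact congrArg (fun φ => φ v)
    (TopCat.Presheaf.stalkPushforward_germ Ab.{u} f.base F.presheaf U x (h.mem_open U.isOpen hU))

theorem toStalkAdd_smul {x : X} {y : Y} (h : f x ⤳ y) (a : Y.presheaf.stalk y)
    (m : ((Coh.push f).obj F).presheaf.stalk y) :
    toStalkAdd f F h (a • m) = ringMap f h a • toStalkAdd f F h m := by
  obtain ⟨U, hU, b, rfl⟩ := Y.presheaf.exists_germ_eq a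
  obtain ⟨V, hV, v, rfl⟩ := ((Coh.push f).obj F).presheaf.exists_germ_eq m
  have hW : y ∈ U ⊓ V := ⟨hU, hV⟩
  rw [← Y.presheaf.germ_res_apply (homOfLE inf_le_left : U ⊓ V ⟶ U) y hW b,
    ← ((Coh.push f).obj F).presheaf.germ_res_apply (homOfLE inf_le_right : U ⊓ V ⟶ V) y hW v]
  generalize Y.presheaf.map (homOfLE inf_le_left : U ⊓ V ⟶ U).op b = b'
  generalize ((Coh.push f).obj F).presheaf.map (homOfLE inf_le_right : U ⊓ V ⟶ V).op v = v'
  rw [← QCoh.germ_smul' ((Coh.push f).obj F) hW, toStalkAdd_germ, toStalkAdd_germ, ringMap_germ]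
  exact QCoh.germ_smul' F _ (f.app _ b') v'

/-- A maximal point of a closed subset has a neighbourhood meeting it only in its closure. -/
theorem exists_open_inter_subset_closure [IsLocallyNoetherian X] {S : Set X} (hS : IsClosed S) {x : X} (hx : x ∈ S)
    (hmax : ∀ z ∈ S, z ⤳ x → z = x) :
    ∃ U : X.Opens, x ∈ U ∧ ∀ z ∈ (U : Set X), z ∈ S → x ⤳ z := by
  have hlf := CycLib.locallyFinite_components hS
  let g := fun Z : irreducibleComponents S => ((↑) '' (Z : Set S) : Set X)
  have hcl : ∀ Z, IsClosed (g Z) := fun Z =>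
    hS.isClosedEmbedding_subtypeVal.isClosedMap _ (isClosed_of_mem_irreducibleComponents _ Z.2)
  have hC : IsClosed (⋃ Z : {Z : irreducibleComponents S // x ∉ g Z}, g Z.1) :=
    (hlf.comp_injective Subtype.val_injective).isClosed_iUnion fun Z => hcl Z.1
  refine ⟨⟨_, hC.isOpen_compl⟩, ?_, ?_⟩
  · simp only [Opens.mem_mk, Set.mem_compl_iff, Set.mem_iUnion]
    rintro ⟨⟨Z, hZ⟩, h⟩
    exact hZ h
  · intro z hz hzS
    let Z : irreducibleComponents S :=
      ⟨irreducibleComponent ⟨z, hzS⟩, irreducibleComponent_mem_irreducibleComponents _⟩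
    have hzZ : z ∈ g Z := ⟨⟨z, hzS⟩, mem_irreducibleComponent, rfl⟩
    have hxZ : x ∈ g Z := by
      by_contra hc
      exact hz (Set.mem_iUnion.2 ⟨⟨Z, hc⟩, hzZ⟩)
    have hirr : IsIrreducible (g Z) :=
      IsIrreducible.image isIrreducible_irreducibleComponent _ continuous_subtype_val.continuousOn
    obtain ⟨η, hη⟩ := QuasiSober.sober hirr (hcl Z)
    have hηS : η ∈ S := by
      obtain ⟨w, -, hw⟩ := hη.mem
      exact hw ▸ w.2
    obtain rfl := hmax η hηS (hη.specializes hxZ)
    exact hη.specializes hzZ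

variable {f} in
/-- An open around a fibre of a closed map contains a tube. -/
theorem exists_tube (hf : IsClosedMap f) (y : Y) (W : X.Opens) (hW : ∀ z, f z = y → z ∈ W) :
    ∃ V : Y.Opens, y ∈ V ∧ f ⁻¹ᵁ V ≤ W := by
  refine ⟨⟨(f '' (W : Set X)ᶜ)ᶜ, (hf _ W.isOpen.isClosed_compl).isOpen_compl⟩, ?_, ?_⟩
  · rintro ⟨z, hz, he⟩
    exact hz (hW z he)
  · intro z hz
    by_contra hc
    exact hz ⟨z, hc, rfl⟩

/-- The stalk of the push-forward is the product of the stalks at finitely many generic points of the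
support, when these are all the points of the support over the given one. -/
theorem bijective_toStalk [IsLocallyNoetherian X] (hf : IsClosedMap f) {y : Y} (hS : IsClosed {z : X | Nontrivial (F.presheaf.stalk z)})
    (T : Set X) (hT : T.Finite) (hTy : ∀ x ∈ T, f x = y) (hTS : ∀ x ∈ T, Nontrivial (F.presheaf.stalk x))
    (hmax : ∀ x ∈ T, ∀ z, Nontrivial (F.presheaf.stalk z) → z ⤳ x → z = x)
    (hall : ∀ z, f z = y → Nontrivial (F.presheaf.stalk z) → z ∈ T) :
    Function.Bijective (fun (m : ((Coh.push f).obj F).presheaf.stalk y) (x : T) =>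
      toStalkAdd f F (specializes_of_eq (hTy x.1 x.2)) m) := by
  classical
  let F' : TopCat.Sheaf Ab.{u} X := ⟨F.presheaf, F.isSheaf⟩
  constructor
  · intro m m' he
    rw [← sub_eq_zero]
    have he0 : ∀ x : T, toStalkAdd f F (specializes_of_eq (hTy x.1 x.2)) (m - m') = 0 := fun x => by
      rw [map_sub, sub_eq_zero]
      exact congrFun he x
    generalize m - m' = d at he0 ⊢
    obtain ⟨V, hV, s, rfl⟩ := ((Coh.push f).obj F).presheaf.exists_germ_eq d
    have h0 : ∀ z (hz : f z = y), F.presheaf.germ (f ⁻¹ᵁ V) z (hz.symm ▸ hV : f z ∈ V) s = 0 := by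
      intro z hz
      by_cases hn : Nontrivial (F.presheaf.stalk z)
      · have := he0 ⟨z, hall z hz hn⟩
        rwa [toStalkAdd_germ] at this
      · haveI := not_nontrivial_iff_subsingleton.1 hn
        exact Subsingleton.elim _ _
    let W : X.Opens := sSup {W | ∃ i : W ⟶ f ⁻¹ᵁ V, F.presheaf.map i.op s = 0}
    obtain ⟨V', hyV', hV'⟩ := exists_tube hf y W fun z hz => by
      have hzV : z ∈ f ⁻¹ᵁ V := by
        show f z ∈ V
        rw [hz]; exact hV
      obtain ⟨W', hzW', i, j, hij⟩ := F.presheaf.germ_eq z hzV hzV s 0 ((h0 z hz).trans (map_zero _).symm)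
      exact Opens.mem_sSup.2 ⟨W', ⟨i, by rw [hij, map_zero]⟩, hzW'⟩
    have hres : F.presheaf.map ((Opens.map f.base).map (homOfLE (inf_le_left : V ⊓ V' ≤ V))).op s = 0 := by
      refine TopCat.Presheaf.section_ext F' _ _ _ fun z hz => ?_
      obtain ⟨W', ⟨i, hi⟩, hzW'⟩ := Opens.mem_sSup.1 (hV' (show z ∈ f ⁻¹ᵁ V' from hz.2))
      show F.presheaf.germ _ z hz (F.presheaf.map _ s) = F.presheaf.germ _ z hz 0
      erw [F.presheaf.germ_res_apply, ← F.presheaf.germ_res_apply i z hzW' s, hi, map_zero, map_zero]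
    rw [← ((Coh.push f).obj F).presheaf.germ_res_apply (homOfLE (inf_le_left : V ⊓ V' ≤ V)) y ⟨hV, hyV'⟩ s]
    exact (congrArg _ hres).trans (map_zero _)
  · intro t
    haveI := hT.to_subtype
    choose U hxU s hs using fun x : T => F.presheaf.exists_germ_eq (t x)
    choose U' hxU' hU' using fun x : T =>
      exists_open_inter_subset_closure hS (hTS x.1 x.2) (hmax x.1 x.2)
    let C : T → X.Opens := fun x => ⟨(⋃ x' ∈ ({x}ᶜ : Set T), closure ({x'.1} : Set X))ᶜ,
      (Set.Finite.isClosed_biUnion (Set.toFinite _) fun _ _ => isClosed_closure).isOpen_compl⟩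
    let A : Option T → X.Opens := fun o => o.elim ⟨_, hS.isOpen_compl⟩ fun x => U x ⊓ U' x ⊓ C x
    let sA : (o : Option T) → Γ(F, A o) := fun o => match o with
      | none => 0
      | some x => F.presheaf.map (homOfLE ((inf_le_left.trans inf_le_left) : U x ⊓ U' x ⊓ C x ≤ U x)).op (s x)
    have hxC : ∀ x : T, x.1 ∈ C x := fun x => by
      show x.1 ∈ (⋃ x' ∈ ({x}ᶜ : Set T), closure ({x'.1} : Set X))ᶜ
      simp only [Set.mem_compl_iff, Set.mem_iUnion]
      rintro ⟨x', hne, hm⟩
      exact hne (Subtype.ext (hmax x.1 x.2 x'.1 (hTS _ x'.2) (specializes_iff_mem_closure.2 hm)))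
    obtain ⟨V, hyV, hV⟩ := exists_tube hf y (iSup A) fun z hz => by
      by_cases hn : Nontrivial (F.presheaf.stalk z)
      · exact Opens.mem_iSup.2 ⟨some ⟨z, hall z hz hn⟩, ⟨hxU _, hxU' _⟩, hxC ⟨z, hall z hz hn⟩⟩
      · exact Opens.mem_iSup.2 ⟨none, hn⟩
    let B : Option T → X.Opens := fun o => A o ⊓ f ⁻¹ᵁ V
    let sB : (o : Option T) → Γ(F, B o) := fun o => F.presheaf.map (homOfLE inf_le_left).op (sA o)
    have hzero : ∀ (o o' : Option T) (z : X), o ≠ o' → z ∈ A o → z ∈ A o' → ¬ Nontrivial (F.presheaf.stalk z) := by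
      rintro (_ | x) (_ | x') z hne hzo hzo' hn
      · exact hne rfl
      · exact hzo hn
      · exact hzo' hn
      · refine hzo.2 (Set.mem_iUnion₂.2 ⟨x', fun he => hne (congrArg some (Set.mem_singleton_iff.1 he).symm), ?_⟩)
        exact specializes_iff_mem_closure.1 (hU' x' z hzo'.1.2 hn)
    obtain ⟨σ, hσ, -⟩ := TopCat.Sheaf.existsUnique_gluing' F' B (f ⁻¹ᵁ V) (fun o => homOfLE inf_le_right)
      (fun z hz => by
        obtain ⟨o, ho⟩ := Opens.mem_iSup.1 (hV hz)
        exact Opens.mem_iSup.2 ⟨o, ho, hz⟩) sB (fun o o' => by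
        by_cases h : o = o'
        · subst h; rfl
        refine TopCat.Presheaf.section_ext F' _ _ _ fun z hz => ?_
        haveI : Subsingleton (F.presheaf.stalk z) := not_nontrivial_iff_subsingleton.1
          (hzero o o' z h hz.1.1 hz.2.1)
        exact Subsingleton.elim (α := F.presheaf.stalk z) _ _)
    refine ⟨((Coh.push f).obj F).presheaf.germ V y hyV σ, funext fun x => ?_⟩
    have hxV : x.1 ∈ f ⁻¹ᵁ V := by
      show f x.1 ∈ V
      rw [hTy x.1 x.2]; exact hyV
    have hxB : x.1 ∈ B (some x) := ⟨⟨⟨hxU x, hxU' x⟩, hxC x⟩, hxV⟩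
    have hx' : F.presheaf.map (homOfLE (inf_le_right : B (some x) ≤ f ⁻¹ᵁ V)).op σ = sB (some x) := hσ (some x)
    show toStalkAdd f F _ (((Coh.push f).obj F).presheaf.germ V y hyV σ) = t x
    rw [toStalkAdd_germ, ← F.presheaf.germ_res_apply (homOfLE (inf_le_right : B (some x) ≤ f ⁻¹ᵁ V)) x.1 hxB σ,
      hx', ← hs x]
    show F.presheaf.germ (B (some x)) x.1 hxB (F.presheaf.map _ (F.presheaf.map _ (s x))) = _
    erw [F.presheaf.germ_res_apply, F.presheaf.germ_res_apply]

/-- The length of a stalk of finite length over the local ring of the image point. -/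
theorem length_stalk_compHom [LocallyOfFiniteType f] {δX : X → ℤ} {δY : Y → ℤ} (hδ : Cyc.DeltaCompat f δX δY)
    {x : X} {y : Y} (hxy : f x = y) (heq : δX x = δY y)
    (hfin : Module.length (X.presheaf.stalk x) (F.presheaf.stalk x) < ⊤) :
    letI := Module.compHom (F.presheaf.stalk x) (ringMap f (specializes_of_eq hxy))
    Module.length (Y.presheaf.stalk y) (F.presheaf.stalk x) =
      Module.length (X.presheaf.stalk x) (F.presheaf.stalk x) * (f.residueDegree x : ℕ∞) := by
  subst hxy
  have hmap : ringMap f (specializes_of_eq (rfl : f x = f x)) = (f.stalkMap x).hom := by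
    rw [ringMap, TopCat.Presheaf.stalkSpecializes_refl, Category.id_comp]
  rw [hmap]
  letI := Module.compHom (F.presheaf.stalk x) (f.stalkMap x).hom
  letI := (f.stalkMap x).hom.toAlgebra
  haveI : IsScalarTower (Y.presheaf.stalk (f x)) (X.presheaf.stalk x) (F.presheaf.stalk x) :=
    IsScalarTower.of_algebraMap_smul fun _ _ => rfl
  show Module.length (Y.presheaf.stalk (f x)) (F.presheaf.stalk x) = _
  rw [length_restrict (R := Y.presheaf.stalk (f x)) (A := X.presheaf.stalk x)
    (Module.length_ne_top_iff.1 hfin.ne)]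
  congr 1
  obtain ⟨n, hn, hδx⟩ := hδ x
  obtain rfl : n = 0 := by omega
  letI aK : Algebra (Y.residueField (f x)) (X.residueField x) := (f.residueFieldMap x).hom.toAlgebra
  haveI : Module.Finite (Y.residueField (f x)) (X.residueField x) := by
    refine CycLib.finite_residueFieldMap_of_rd_eq_zero f x ?_
    have h1 := FibDim.rd_eq_rdeg f x
    rw [VarDim.rdeg, hn] at h1
    exact_mod_cast h1
  letI aK' : Algebra (IsLocalRing.ResidueField (Y.presheaf.stalk (f x)))
      (IsLocalRing.ResidueField (X.presheaf.stalk x)) := (f.residueFieldMap x).hom.toAlgebra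
  haveI : IsScalarTower (Y.presheaf.stalk (f x)) (IsLocalRing.ResidueField (Y.presheaf.stalk (f x)))
      (IsLocalRing.ResidueField (X.presheaf.stalk x)) :=
    IsScalarTower.of_algebraMap_eq' (congrArg CommRingCat.Hom.hom (Scheme.residue_residueFieldMap f x)).symm
  rw [Module.length_eq_of_surjective (S := Y.presheaf.stalk (f x))
      (R := IsLocalRing.ResidueField (Y.presheaf.stalk (f x))) (M := IsLocalRing.ResidueField (X.presheaf.stalk x))
      IsLocalRing.residue_surjective]
  exact H23.FiniteFibreSum.length_eq_finrank (Y.residueField (f x)) (X.residueField x)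

/-- Proper push-forward of cycles of coherent sheaves, coefficientwise. -/
theorem map_sheafFun {δX : X → ℤ} {δY : Y → ℤ} [IsLocallyNoetherian X] (hd : Cyc.IsDimFun X δX) [IsProper f]
    (hδ : Cyc.DeltaCompat f δX δY) (k : ℤ) (hF : Coh.IsCoh F)
    (hdim : ∀ x : X, Nontrivial (F.presheaf.stalk x) → δX x ≤ k) (α : AlgebraicCycle X ℤ)
    (hα : ⇑α = Cyc.sheafFun δX k F) :
    ⇑(AlgebraicCycle.map f δX δY α) = Cyc.sheafFun δY k ((Coh.push f).obj F) := by
  classical
  funext y
  rw [CycLib.map_apply']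
  have hαx : ∀ x, α x ≠ 0 → δX x = k ∧ Nontrivial (F.presheaf.stalk x) := by
    intro x hx
    rw [hα, Cyc.sheafFun] at hx
    split_ifs at hx with h
    · refine ⟨h, not_subsingleton_iff_nontrivial.1 fun hs => hx ?_⟩
      rw [Module.length_eq_zero]; rfl
    · exact absurd rfl hx
  by_cases hy : δY y = k
  swap
  · rw [Cyc.sheafFun, if_neg hy]
    refine (finsum_mem_congr rfl fun x hx => ?_).trans (finsum_mem_zero _)
    by_contra hc
    obtain ⟨h1, h2⟩ := mul_ne_zero_iff.1 hc
    simp only [AlgebraicCycle.mapCoeff, ne_eq, Nat.cast_eq_zero, ite_eq_right_iff, Classical.not_imp] at h2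
    have hx' : f.base x = y := hx
    exact hy (by rw [← hx', ← h2.1]; exact (hαx x h1).1)
  let T : Set X := {x | f x = y ∧ Nontrivial (F.presheaf.stalk x)}
  have hTk : ∀ x ∈ T, δX x = k := fun x hx => le_antisymm (hdim x hx.2) (by
    have h := CycLib.le_of_deltaCompat f hδ x
    rw [hx.1, hy] at h
    exact h)
  have hmax : ∀ x ∈ T, ∀ z, Nontrivial (F.presheaf.stalk z) → z ⤳ x → z = x := fun x hx z hz hzx =>
    CycLib.eq_of_delta_le hd hzx ((hdim z hz).trans (hTk x hx).ge)
  have hlt : ∀ x ∈ T, Module.length (X.presheaf.stalk x) (F.presheaf.stalk x) < ⊤ := fun x hx =>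
    CycLib.length_stalk_lt_top F hF (hmax x hx)
  have hTfin : T.Finite := by
    refine (CycLib.finite_support_inter_fibre f α y).subset fun x hx => ⟨?_, hx.1⟩
    rw [Function.mem_support, hα, Cyc.sheafFun, if_pos (hTk x hx)]
    haveI := hx.2
    simp only [ne_eq, Nat.cast_eq_zero, ENat.toNat_eq_zero, not_or]
    exact ⟨Module.length_pos.ne', (hlt x hx).ne⟩
  haveI := hTfin.fintype
  letI : ∀ x : T, Module (Y.presheaf.stalk y) (F.presheaf.stalk x.1) := fun x =>
    Module.compHom _ (ringMap f (specializes_of_eq x.2.1))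
  let Φ : ((Coh.push f).obj F).presheaf.stalk y →ₗ[Y.presheaf.stalk y] ((x : T) → F.presheaf.stalk x.1) :=
    { toFun := fun m x => toStalkAdd f F (specializes_of_eq x.2.1) m
      map_add' := fun a b => funext fun x => map_add _ a b
      map_smul' := fun a m => funext fun x => toStalkAdd_smul f F (specializes_of_eq x.2.1) a m }
  have hΦ : Function.Bijective Φ := bijective_toStalk f F f.isClosedMap (CycLib.isClosed_nontrivial F hF) T
    hTfin (fun x hx => hx.1) (fun x hx => hx.2) hmax (fun z hz hn => ⟨hz, hn⟩)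
  have hlen : Module.length (Y.presheaf.stalk y) (((Coh.push f).obj F).presheaf.stalk y) =
      ∑ x : T, Module.length (X.presheaf.stalk x.1) (F.presheaf.stalk x.1) * (f.residueDegree x.1 : ℕ∞) := by
    rw [(LinearEquiv.ofBijective Φ hΦ).length_eq, Module.length_pi_of_fintype]
    exact Finset.sum_congr rfl fun x _ =>
      length_stalk_compHom f F hδ x.2.1 ((hTk x.1 x.2).trans hy.symm) (hlt x.1 x.2)
  rw [Cyc.sheafFun, if_pos hy, hlen,
    ENat.toNat_sum fun x _ => WithTop.mul_ne_top (hlt x.1 x.2).ne (ENat.natCast_ne_top _), Nat.cast_sum,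
    finsum_mem_eq_sum_of_subset _ (t := T.toFinset) ?_ ?_, ← Finset.sum_subtype _ (fun x => Set.mem_toFinset)
      (fun x => (((Module.length (X.presheaf.stalk x) (F.presheaf.stalk x)) * (f.residueDegree x : ℕ∞)).toNat : ℤ))]
  · refine Finset.sum_congr rfl fun x hx => ?_
    rw [Set.mem_toFinset] at hx
    rw [hα, Cyc.sheafFun, if_pos (hTk x hx), ENat.toNat_mul, ENat.toNat_natCast, Nat.cast_mul,
      AlgebraicCycle.mapCoeff, if_pos]
    show δX x = δY (f x)
    rw [hx.1, hy, hTk x hx]
  · rintro x ⟨hx1, hx2⟩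
    exact Set.mem_toFinset.2 ⟨hx1, (hαx x (left_ne_zero_of_mul hx2)).2⟩
  · intro x hx
    exact (Set.mem_toFinset.1 hx).1

end Groth.Agent.H9CycPush
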